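import Cfsg.Agent.H34.TI.J4Cols
import Cfsg.Agent.SmallSimple.InvolColumn
import Cfsg.Agent.Characters.SchurBound
import Cfsg.Agent.S0145
import Cfsg.Agent.S0165

/-!
# The columns of `11A` and `11B` in a group like `J₄` (helper34)
-/

set_option autoImplicit false
set_option linter.unusedSectionVars false

open Cfsg Subgroup
open scoped ComplexConjugate

namespace Cfsg.Agent.H34.TI

open Cfsg.Agent.Characters Cfsg.Agent.Characters.Core Cfsg.Agent.H265.J4LP

universe u

variable {G : Type u} [Group G] [Finite G]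

theorem one_eq (χ : IrrCharacter G) : (χ : G → ℂ) 1 = (dg χ : ℂ) := by
  rw [dg]
  exact_mod_cast Cfsg.Agent.Blocks.Basic.irr_one_eq_charDegree χ.2

theorem val_conj (χ : IrrCharacter G) {x y : G} (h : IsConj x y) : (χ : G → ℂ) x = (χ : G → ℂ) y := by
  obtain ⟨c, rfl⟩ := isConj_iff.1 h
  exact (isCharacter_isClassFunction (isIrr_isCharacter χ.2) x c).symm

/-- The value at `x` is an integer if `x` has prime order `p` and is conjugate to its nontrivial powers. -/
theorem exists_int_val {p : ℕ} (hp : p.Prime) {x : G} (hx : orderOf x = p)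
    (hc : ∀ u ∈ zpowers x, u ≠ 1 → IsConj u x) (χ : IrrCharacter G) :
    ∃ a n : ℤ, (χ : G → ℂ) x = a ∧ dg χ + (p - 1) * a = p * n := by
  classical
  have := Fintype.ofFinite (zpowers x)
  have hg : IsGeneralizedCharacter (zpowers x) (fun y : zpowers x => (χ : G → ℂ) y) :=
    Brauer.isGeneralizedCharacter_of_isCharacter (Brauer.isCharacter_restrict (isIrr_isCharacter χ.2) _)
  obtain ⟨n, hn⟩ := SchurBound.exists_int_sum hg
  rw [Nat.card_zpowers, hx, ← Finset.add_sum_erase _ _ (Finset.mem_univ (1 : zpowers x))] at hn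
  have h1 : ∀ y ∈ (Finset.univ : Finset (zpowers x)).erase 1, (χ : G → ℂ) y = (χ : G → ℂ) x := by
    intro y hy
    have hy1 := (Finset.mem_erase.1 hy).1
    exact val_conj χ (hc y y.2 fun e => hy1 (Subtype.ext e))
  rw [Finset.sum_congr rfl h1, Finset.sum_const, Finset.card_erase_of_mem (Finset.mem_univ _), Finset.card_univ,
    ← Nat.card_eq_fintype_card, Nat.card_zpowers, hx, OneMemClass.coe_one, one_eq, nsmul_eq_mul,
    Nat.cast_sub hp.one_lt.le, Nat.cast_one] at hn
  have hp1 : ((p : ℂ) - 1) ≠ 0 := by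
    intro h
    have : (p : ℂ) = 1 := by linear_combination h
    have : p = 1 := by exact_mod_cast this
    exact hp.one_lt.ne' this
  obtain ⟨a, ha⟩ := SchurBound.exists_int_of_rat (z := (χ : G → ℂ) x)
    (by
      obtain ⟨m, ρ, h⟩ := isIrr_isCharacter χ.2
      rw [← h]
      exact AverageRoots.isIntegral_character ρ x)
    (q := ((p : ℚ) * n - dg χ) / (p - 1)) (by
      push_cast
      rw [eq_div_iff hp1]
      linear_combination hn)
  refine ⟨a, n, ha, ?_⟩
  rw [ha] at hn
  exact_mod_cast hn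

variable {D : Data11 G}

theorem conj_zpow_x (h : Eleven D) (u : G) (hu : u ∈ zpowers D.x) (hu1 : u ≠ 1) : IsConj u D.x := by
  obtain ⟨k, rfl⟩ := mem_powers_iff_mem_zpowers.2 hu
  refine h.pow_x k fun hd => hu1 ?_
  rw [← h.ord_x] at hd
  exact orderOf_dvd_iff_pow_eq_one.1 hd

theorem sum_P (h : Eleven D) (χ : IrrCharacter G) {a b : ℤ} (ha : (χ : G → ℂ) D.z = a) (hb : (χ : G → ℂ) D.x = b) :
    ∃ n : ℤ, dg χ + 10 * a + 1320 * b = 1331 * n := by
  classical
  have := Fintype.ofFinite D.P
  have hg : IsGeneralizedCharacter D.P (fun y : D.P => (χ : G → ℂ) y) :=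
    Brauer.isGeneralizedCharacter_of_isCharacter (Brauer.isCharacter_restrict (isIrr_isCharacter χ.2) _)
  obtain ⟨n, hn⟩ := SchurBound.exists_int_sum hg
  refine ⟨n, ?_⟩
  have hv : ∀ u : D.P, (χ : G → ℂ) u = (b : ℂ) + (if (u : G) ∈ zpowers D.z then ((a : ℂ) - b) else 0) +
      (if u = 1 then ((dg χ : ℂ) - a) else 0) := by
    intro u
    by_cases h1 : u = 1
    · subst h1
      rw [if_pos rfl, OneMemClass.coe_one, if_pos (one_mem _), one_eq]
      ring
    · rw [if_neg h1]
      have h1' : (u : G) ≠ 1 := fun e => h1 (Subtype.ext e)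
      by_cases h2 : (u : G) ∈ zpowers D.z
      · rw [if_pos h2, val_conj χ (h.conj_z _ h2 h1'), ha]
        ring
      · rw [if_neg h2, val_conj χ (h.conj_x _ u.2 h2), hb]
        ring
  have hZ : (Finset.univ.filter fun u : D.P => (u : G) ∈ zpowers D.z).card = 11 := by
    have h1 : zpowers D.z ≤ D.P := by rw [zpowers_le]; exact h.z_mem
    rw [← Fintype.card_subtype, ← Nat.card_eq_fintype_card]
    have h2 : Nat.card ((zpowers D.z).subgroupOf D.P) = 11 := by
      rw [Nat.card_congr (subgroupOfEquivOfLe h1).toEquiv, Nat.card_zpowers, h.ord_z]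
    rw [← h2]
    exact Nat.card_congr (Equiv.subtypeEquivRight fun u => mem_subgroupOf.symm)
  rw [Finset.sum_congr rfl fun u _ => hv u, Finset.sum_add_distrib, Finset.sum_add_distrib, Finset.sum_const,
    Finset.card_univ, ← Nat.card_eq_fintype_card, h.card_P, ← Finset.sum_filter, Finset.sum_const, hZ,
    Finset.sum_ite_eq' Finset.univ (1 : D.P), if_pos (Finset.mem_univ _), nsmul_eq_mul, nsmul_eq_mul] at hn
  have h4 : 1331 * b + 11 * (a - b) + (dg χ - a) = 1331 * n := by exact_mod_cast hn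
  linarith

theorem index_eq {N c m : ℕ} (hN : Nat.card G = N) {g : G} (hc : Nat.card (centralizer ({g} : Set G)) = c)
    (hm : c * m = N) : (centralizer ({g} : Set G)).index = m := by
  have h1 := card_mul_index (centralizer ({g} : Set G))
  rw [hN, hc, ← hm] at h1
  have hc0 : 0 < c := by rw [← hc]; exact Nat.card_pos
  exact Nat.eq_of_mul_eq_mul_left hc0 h1

/-- The size of a class. -/
theorem card_isConj (z : G) : Nat.card {y : G // IsConj z y} = (centralizer ({z} : Set G)).index := by
  have e : {y : G // IsConj z y} ≃ MulAction.orbit (ConjAct G) z :=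
    Equiv.subtypeEquivRight fun y => by rw [ConjAct.mem_orbit_conjAct, isConj_comm]
  rw [Nat.card_congr e, Nat.card_congr (MulAction.orbitEquivQuotientStabilizer (ConjAct G) z),
    ConjAct.stabilizer_eq_centralizer]
  rfl

theorem sum_normSq_irr [Fintype G] (χ : IrrCharacter G) : ∑ y : G, Complex.normSq ((χ : G → ℂ) y) = Nat.card G := by
  have h := Core.classInner_irr_self χ.2
  rw [Core.classInner_def] at h
  have hn : (Nat.card G : ℂ) ≠ 0 := Core.card_ne_zero_complex
  have h1 := congrArg (fun z => (Nat.card G : ℂ) * z) h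
  rw [← mul_assoc, mul_inv_cancel₀ hn, one_mul, mul_one] at h1
  have h2 : ((∑ y : G, Complex.normSq ((χ : G → ℂ) y) : ℝ) : ℂ) = ((Nat.card G : ℝ) : ℂ) := by
    push_cast
    rw [← h1]
    refine Finset.sum_congr rfl (fun y _ => ?_)
    rw [Complex.mul_conj]
  exact_mod_cast h2

theorem norm_bound (χ : IrrCharacter G) {x y : G} (hxy : ¬ IsConj x y) {a b : ℤ} (ha : (χ : G → ℂ) x = a)
    (hb : (χ : G → ℂ) y = b) :
    ((centralizer ({x} : Set G)).index : ℤ) * a ^ 2 + ((centralizer ({y} : Set G)).index : ℤ) * b ^ 2 ≤ Nat.card G := by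
  classical
  have := Fintype.ofFinite G
  have h0 := sum_normSq_irr χ
  have hs : ∀ (z : G) (c : ℤ), (χ : G → ℂ) z = c →
      ∑ g ∈ Finset.univ.filter (fun g => IsConj z g), Complex.normSq ((χ : G → ℂ) g) =
        ((((centralizer ({z} : Set G)).index : ℤ) * c ^ 2 : ℤ) : ℝ) := by
    intro z c hc
    rw [Finset.sum_congr rfl (g := fun _ => ((c : ℝ) ^ 2)) fun g hg => by
      rw [← val_conj χ (Finset.mem_filter.1 hg).2, hc, Complex.normSq_intCast]; ring]
    rw [Finset.sum_const, nsmul_eq_mul, ← Fintype.card_subtype, ← Nat.card_eq_fintype_card, card_isConj]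
    push_cast
    ring
  have hdis : Disjoint (Finset.univ.filter (fun g => IsConj x g)) (Finset.univ.filter (fun g => IsConj y g)) := by
    rw [Finset.disjoint_left]
    intro g h1 h2
    exact hxy ((Finset.mem_filter.1 h1).2.trans (Finset.mem_filter.1 h2).2.symm)
  have h1 := Finset.sum_le_sum_of_subset_of_nonneg
    (Finset.subset_univ (Finset.univ.filter (fun g => IsConj x g) ∪ Finset.univ.filter (fun g => IsConj y g)))
    (fun g _ _ => Complex.normSq_nonneg ((χ : G → ℂ) g))
  rw [Finset.sum_union hdis, hs x a ha, hs y b hb, h0, ← Int.cast_add] at h1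
  exact_mod_cast h1

theorem gram (x y : G) [Fintype (IrrCharacter G)] {a b : IrrCharacter G → ℤ}
    (ha : ∀ χ : IrrCharacter G, (a χ : ℂ) = (χ : G → ℂ) x) (hb : ∀ χ : IrrCharacter G, (b χ : ℂ) = (χ : G → ℂ) y) :
    (IsConj x y → ∑ χ, a χ * b χ = Nat.card (centralizer ({y} : Set G))) ∧ (¬ IsConj x y → ∑ χ, a χ * b χ = 0) := by
  classical
  have := Fintype.ofFinite G
  have h := S0145.sum_irr_mul_conj x y
  have h1 : ∑ χ : IrrCharacter G, (χ : G → ℂ) x * conj ((χ : G → ℂ) y) = ((∑ χ, a χ * b χ : ℤ) : ℂ) := by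
    push_cast
    refine Finset.sum_congr rfl fun χ _ => ?_
    rw [← ha, ← hb, map_intCast]
  rw [h1] at h
  constructor
  · intro hc
    rw [if_pos hc] at h
    exact_mod_cast h
  · intro hc
    rw [if_neg hc] at h
    exact_mod_cast h

/-- **The columns of `11A` and `11B`.** -/
theorem cols11 [Fintype (IrrCharacter G)] (h : Eleven D) (hN : Nat.card G = 86775571046077562880) :
    ∃ a b : IrrCharacter G → ℤ, Cols11 D.z D.x a b := by
  have hA : ∀ χ : IrrCharacter G, ∃ a n : ℤ, (χ : G → ℂ) D.z = a ∧ dg χ + ((11 : ℕ) - 1) * a = (11 : ℕ) * n :=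
    exists_int_val (by norm_num) h.ord_z h.conj_z
  have hB : ∀ χ : IrrCharacter G, ∃ a n : ℤ, (χ : G → ℂ) D.x = a ∧ dg χ + ((11 : ℕ) - 1) * a = (11 : ℕ) * n :=
    exists_int_val (by norm_num) h.ord_x (conj_zpow_x h)
  choose a na ha hna using hA
  choose b nb hb hnb using hB
  have hne : ¬ IsConj D.z D.x := fun hc => by
    have := h.rep_inj 0 1 hc
    exact absurd this (by decide)
  have hcz : Nat.card (centralizer ({D.z} : Set G)) = 31944 := h.card_cent 0
  have hcx : Nat.card (centralizer ({D.x} : Set G)) = 242 := h.card_cent 1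
  have hiz := index_eq (m := 2716490453483520) hN hcz (by norm_num)
  have hix := index_eq (m := 358576739859824640) hN hcx (by norm_num)
  refine ⟨a, b, ?_, ?_, ?_, ?_, ?_, ?_, ?_, ?_, ?_, ?_, ?_⟩
  · exact fun χ => (ha χ).symm
  · exact fun χ => (hb χ).symm
  · intro χ
    have h1 := hna χ
    have h2 := hnb χ
    push_cast at h1 h2
    omega
  · intro χ
    obtain ⟨n, hn⟩ := sum_P h χ (ha χ) (hb χ)
    omega
  · intro χ
    have h1 := Cfsg.Agent.SmallSimple.InvolColumn.dvd_index_mul χ.2 (ha χ)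
    rw [hiz] at h1
    exact_mod_cast h1
  · intro χ
    have h1 := Cfsg.Agent.SmallSimple.InvolColumn.dvd_index_mul χ.2 (hb χ)
    rw [hix] at h1
    exact_mod_cast h1
  · intro χ
    have h1 := norm_bound χ hne (ha χ) (hb χ)
    rw [hiz, hix, hN] at h1
    push_cast at h1
    linarith
  · intro χ
    constructor
    · intro hd
      have hz : ∀ g : G, 11 ∣ orderOf g → (χ : G → ℂ) g = 0 := by
        intro g hg
        obtain ⟨m, ρ, hρ, hχ⟩ := χ.2
        have hd' : 11 ^ 3 ∣ Module.finrank ℂ (Fin m → ℂ) := by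
          have h1 : ((χ : G → ℂ) 1) = (dg χ : ℂ) := one_eq χ
          rw [← hχ, Representation.char_one] at h1
          have h2 : (Module.finrank ℂ (Fin m → ℂ) : ℤ) = dg χ := by exact_mod_cast h1
          have h3 : (1331 : ℤ) ∣ (Module.finrank ℂ (Fin m → ℂ) : ℤ) := by rw [h2]; exact hd
          exact_mod_cast h3
        have := S0165.result ρ 11 3 (by norm_num) (by rw [hN]; norm_num) (by rw [hN]; norm_num) hd' g hg
        rw [hχ] at this
        exact this
      constructor
      · have := hz D.z (by rw [h.ord_z])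
        rw [ha χ] at this
        exact_mod_cast this
      · have := hz D.x (by rw [h.ord_x])
        rw [hb χ] at this
        exact_mod_cast this
    · rintro ⟨h1, h2⟩
      obtain ⟨n, hn⟩ := sum_P h χ (ha χ) (hb χ)
      rw [h1, h2] at hn
      exact ⟨n, by linarith⟩
  · have := (gram D.z D.z (fun χ => (ha χ).symm) (fun χ => (ha χ).symm)).1 (IsConj.refl _)
    rw [this, hcz]; rfl
  · have := (gram D.x D.x (fun χ => (hb χ).symm) (fun χ => (hb χ).symm)).1 (IsConj.refl _)
    rw [this, hcx]; rfl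
  · exact (gram D.z D.x (fun χ => (ha χ).symm) (fun χ => (hb χ).symm)).2 hne

end Cfsg.Agent.H34.TI
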