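import Cfsg.Prelude.Def_Blocks
import Cfsg.Agent.H265.J4LP.Defs

/-!
# The columns of `J₄` used by the certificate (helper34)

Interfaces `Cols11`, `Cols7`, `Cols5` (statements only). The data `y`, `ψ`, `H` are those of helper265
(`H265/J4LP/{Defs,Seven,Five}.lean`).
-/

set_option autoImplicit false

open Cfsg
open scoped ComplexConjugate

namespace Cfsg.Agent.H34.TI

universe u

variable {G : Type u} [Group G]

/-- the degree as an integer -/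
noncomputable def dg (χ : IrrCharacter G) : ℤ := (charDegree (χ : G → ℂ) : ℤ)

/-- the columns of `z` (`11A`) and `x` (`11B`) -/
structure Cols11 [Fintype (IrrCharacter G)] (z x : G) (a b : IrrCharacter G → ℤ) : Prop where
  a_eq : ∀ χ : IrrCharacter G, (a χ : ℂ) = (χ : G → ℂ) z
  b_eq : ∀ χ : IrrCharacter G, (b χ : ℂ) = (χ : G → ℂ) x
  cong : ∀ χ, (11 : ℤ) ∣ b χ - a χ
  cong' : ∀ χ, (1331 : ℤ) ∣ dg χ - (11 * b χ - 10 * a χ)
  dvd_a : ∀ χ, dg χ ∣ 2716490453483520 * a χ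
  dvd_b : ∀ χ, dg χ ∣ 358576739859824640 * b χ
  norm : ∀ χ, 242 * (a χ) ^ 2 + 31944 * (b χ) ^ 2 ≤ 7730448
  dz : ∀ χ, (1331 : ℤ) ∣ dg χ ↔ a χ = 0 ∧ b χ = 0
  aa : ∑ χ, a χ * a χ = 31944
  bb : ∑ χ, b χ * b χ = 242
  ab : ∑ χ, a χ * b χ = 0

/-- the number of fixed points -/
def fx (s : Equiv.Perm (Fin 5)) : ℤ := ((Finset.univ.filter fun i => s i = i).card : ℤ)

/-- the sign -/
def sg (s : Equiv.Perm (Fin 5)) : ℤ := ((Equiv.Perm.sign s : ℤˣ) : ℤ)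

/-- the irreducible characters of `S₅` (degrees 1, 1, 4, 4, 5, 5, 6) -/
def th5 (a : Fin 7) (s : Equiv.Perm (Fin 5)) : ℤ :=
  (![1, sg s, fx s - 1, sg s * (fx s - 1), (fx s * (fx s - 1) + fx (s * s) - fx s) / 2 - fx s,
    sg s * ((fx s * (fx s - 1) + fx (s * s) - fx s) / 2 - fx s), ((fx s - 1) ^ 2 - (fx (s * s) - 1)) / 2] : Fin 7 → ℤ) a

/-- the degrees of the irreducible characters of `S₅` -/
def t7 (a : Fin 7) : ℤ := (![1, 1, 4, 4, 5, 5, 6] : Fin 7 → ℤ) a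

/-- the columns of 7 : `s a χ = c + c*`, `c` the coefficient of `th5 a` in `χ(y ·)` -/
structure Cols7 [Fintype (IrrCharacter G)] (y : G) (psi : Equiv.Perm (Fin 5) →* G) (s : Fin 7 → IrrCharacter G → ℤ) :
    Prop where
  supp : ∀ a, ∀ χ : IrrCharacter G, (s a χ : ℂ) = ∑ p : Equiv.Perm (Fin 5), (th5 a p : ℂ) / 120 *
    ((χ : G → ℂ) (y * psi p) + (χ : G → ℂ) (y⁻¹ * psi p))
  type : ∀ χ, ((7 : ℤ) ∣ dg χ ∧ ∀ a, s a χ = 0) ∨ ∃ a, ∃ e : ℤ, (e = 1 ∨ e = -1) ∧ (∀ a', a' ≠ a → s a' χ = 0) ∧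
    ((s a χ = 2 * e ∧ (7 : ℤ) ∣ dg χ - e * t7 a) ∨ (s a χ = -e ∧ (7 : ℤ) ∣ dg χ - 3 * e * t7 a))
  gram : ∀ a b, ∑ χ, s a χ * s b χ = if a = b then 14 else 0
  cnt : ∀ a, (Finset.univ.filter fun χ => s a χ = 1 ∨ s a χ = -1).card = 2

/-- the grouping of the irreducible characters of `H` (degrees 1,3,3,6,7,8,14,7,7,21,21) into orbits of `N(5)` -/
def grp (b : Fin 9) : Finset (Fin 11) :=
  (![{0}, {1}, {2}, {3}, {4}, {5}, {6}, {7, 8}, {9, 10}] : Fin 9 → Finset (Fin 11)) b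

/-- the degrees of the irreducible characters of `H` -/
def t11 (i : Fin 11) : ℕ := (![1, 3, 3, 6, 7, 8, 14, 7, 7, 21, 21] : Fin 11 → ℕ) i

/-- the degree in the orbit `b` -/
def t5 (b : Fin 9) : ℤ := (![1, 3, 3, 6, 7, 8, 14, 7, 21] : Fin 9 → ℤ) b

/-- the irreducible characters of `H = 2³.L₃(2)` and their values at elements of order 7 -/
structure IrrH (H : Subgroup G) (th : Fin 11 → IrrCharacter H) : Prop where
  bij : Function.Bijective th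
  deg : ∀ i, charDegree (th i : H → ℂ) = t11 i
  seven : ∀ h : H, orderOf h = 7 → ∀ b, ∑ i ∈ grp b, ((th i : H → ℂ) h + (th i : H → ℂ) h⁻¹) =
    ((![2, -1, -1, -2, 0, 2, 0, 0, 0] : Fin 9 → ℤ) b : ℂ)

/-- the action of `n` on the irreducible characters of `H` -/
structure ActH (H : Subgroup G) (n : G) (th : Fin 11 → IrrCharacter H) : Prop where
  norm : ∀ h ∈ H, n * h * n⁻¹ ∈ H
  act : ∀ i, ∀ h : H, (th i : H → ℂ) ⟨n * h * n⁻¹, norm h h.2⟩ =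
    (th ((![0, 1, 2, 3, 4, 5, 6, 8, 7, 10, 9] : Fin 11 → Fin 11) i) : H → ℂ) h

/-- the columns of 5 : the sum over the orbit `b` of the coefficients of `th i` in `χ(y ·)` -/
structure Cols5 [Fintype (IrrCharacter G)] [Finite G] (y : G) (H : Subgroup G) (th : Fin 11 → IrrCharacter H)
    (t : Fin 9 → IrrCharacter G → ℤ) : Prop where
  supp : haveI := Fintype.ofFinite H; ∀ b, ∀ χ : IrrCharacter G, (t b χ : ℂ) = ∑ i ∈ grp b, ∑ h : H,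
    conj ((th i : H → ℂ) h) / 1344 * (χ : G → ℂ) (y * h)
  type : ∀ χ, ((5 : ℤ) ∣ dg χ ∧ ∀ b, t b χ = 0) ∨ ∃ b, ∃ e : ℤ, (e = 1 ∨ e = -1) ∧ (∀ b', b' ≠ b → t b' χ = 0) ∧
    ((b.val < 7 ∧ t b χ = e ∧ (5 : ℤ) ∣ dg χ - e * t5 b) ∨
      (7 ≤ b.val ∧ t b χ = 2 * e ∧ (5 : ℤ) ∣ dg χ - 2 * e * t5 b) ∨
      (7 ≤ b.val ∧ t b χ = -e ∧ (5 : ℤ) ∣ dg χ - 4 * e * t5 b))
  gram : ∀ a b, ∑ χ, t a χ * t b χ = if a = b then (if a.val < 7 then 5 else 10) else 0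
  cnt : ∀ b : Fin 9, 7 ≤ b.val → (Finset.univ.filter fun χ => t b χ = 1 ∨ t b χ = -1).card = 2

/-- the products of the columns of 7 with the columns of 5 -/
def Cross [Fintype (IrrCharacter G)] (s : Fin 7 → IrrCharacter G → ℤ) (t : Fin 9 → IrrCharacter G → ℤ) : Prop :=
  ∀ a b, ∑ χ, s a χ * t b χ = (![1, 1, -1, -1, 0, 0, 1] : Fin 7 → ℤ) a * (![2, -1, -1, -2, 0, 2, 0, 0, 0] : Fin 9 → ℤ) b

end Cfsg.Agent.H34.TI
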