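import Cfsg.Agent.H34.TI.Defs
import Cfsg.Agent.H34.TI.J4Cols
import Cfsg.Agent.H608.TI.LocGen

/-!
# `J₄` : S4820 from the number of characters of degree divisible by `11³` (helper34)
-/

set_option autoImplicit false
set_option linter.unusedSectionVars false

open Cfsg Subgroup

namespace Cfsg.Agent.H34.TI

open Cfsg.Agent.H265.J4LP

universe u

variable {G : Type u} [Group G] [Finite G] {D : Data11 G}

theorem conj_out (g : G) : IsConj (ConjClasses.mk g).out g := by
  rw [← ConjClasses.mk_eq_mk_iff_isConj]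
  exact Quotient.out_eq _

theorem orderOf_conj {x y : G} (h : IsConj x y) : orderOf x = orderOf y := by
  obtain ⟨c, rfl⟩ := isConj_iff.1 h
  exact (orderOf_injective (MulAut.conj c).toMonoidHom (MulAut.conj c).injective x).symm

/-- there are nine classes of elements of order divisible by 11 -/
theorem card_sing (h : Eleven D) : Nat.card (Sing 11 G) = 9 := by
  have key : ∀ j, 11 ∣ orderOf (D.rep j) := by
    intro j
    rw [h.ord_rep j]
    revert j
    decide
  let f : Fin 9 → Sing 11 G := fun j => ⟨ConjClasses.mk (D.rep j), by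
    rw [orderOf_conj (conj_out (D.rep j))]; exact key j⟩
  have hf : Function.Bijective f := by
    constructor
    · intro i j hij
      apply h.rep_inj
      exact ConjClasses.mk_eq_mk_iff_isConj.1 (congrArg Subtype.val hij)
    · rintro ⟨c, hc⟩
      obtain ⟨j, hj⟩ := h.exhaust _ hc
      refine ⟨j, Subtype.ext ?_⟩
      show ConjClasses.mk (D.rep j) = c
      rw [← Quotient.out_eq c]
      exact ConjClasses.mk_eq_mk_iff_isConj.2 hj.symm
  rw [← Nat.card_congr (Equiv.ofBijective f hf), Nat.card_fin]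

theorem fact_eleven {n : ℕ} (h0 : n ≠ 0) (h1 : 11 ^ 3 ∣ n) (h2 : ¬ 11 ^ 4 ∣ n) : n.factorization 11 = 3 := by
  rw [Nat.Prime.pow_dvd_iff_le_factorization (by norm_num) h0] at h1 h2
  omega

theorem isDz_iff (hN : Nat.card G = 86775571046077562880) (χ : IrrCharacter G) : IsDz 11 χ ↔ (1331 : ℤ) ∣ dg χ := by
  have h1 : (Nat.card G).factorization 11 = 3 := by
    rw [hN]
    exact fact_eleven (by norm_num) (by norm_num) (by norm_num)
  have hd := Blocks.Knorr.charDegree_dvd χ.2
  have hpos := Blocks.Basic.charDegree_pos χ.2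
  have h2 : ((1331 : ℤ) ∣ dg χ) ↔ 11 ^ 3 ∣ charDegree (χ : G → ℂ) := by
    unfold dg
    exact_mod_cast Iff.rfl
  have h3 : (charDegree (χ : G → ℂ)).factorization 11 ≤ 3 := by
    rw [← h1]
    exact (Nat.factorization_le_iff_dvd hpos.ne' Nat.card_pos.ne').2 hd 11
  rw [IsDz, h1, h2, Nat.Prime.pow_dvd_iff_le_factorization (by norm_num) hpos.ne']
  omega

/-- S4820 for `G` like `J₄`. -/
theorem cnt_of [Fintype (IrrCharacter G)] (h : Eleven D) (hN : Nat.card G = 86775571046077562880)
    (hk : Nat.card (ConjClasses G) = 62)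
    (hq : ∀ P : Sylow 11 G, Nat.card (ConjClasses ((Subgroup.normalizer ((P : Subgroup G) : Set G)) ⧸
        ((P : Subgroup G).subgroupOf (Subgroup.normalizer ((P : Subgroup G) : Set G))))) = 40)
    (hdz : (Finset.univ.filter fun χ : IrrCharacter G => (1331 : ℤ) ∣ dg χ).card = 13) : Cnt 11 G := by
  haveI : Fact (Nat.Prime 11) := ⟨by norm_num⟩
  intro P hTI
  rw [hk, H608.TI.locGen 11 G P hTI, hq P, card_sing h]
  have h1 : Nat.card {χ : IrrCharacter G // IsDz 11 χ} = 13 := by
    classical
    rw [Nat.card_congr (Equiv.subtypeEquivRight fun χ => isDz_iff hN χ), Nat.card_eq_fintype_card, Fintype.card_subtype]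
    convert hdz
  rw [h1]

end Cfsg.Agent.H34.TI
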